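/-
The Mathieu group of degree twenty-two from its order and its element counts.
-/
import Cfsg.Agent.Lib.MathieuCounts.Common
import Cfsg.Agent.Lib.SimpleM22.SevenMain
import Cfsg.Agent.Lib.SimpleM22.Eleven

set_option autoImplicit false
set_option linter.style.haveILetI false
set_option linter.unusedSectionVars false

namespace CfsgM22Det

open Cfsg Subgroup CfsgMathieuCounts

theorem isM22_spor : IsM22 ↥Spor.M22 := ⟨CfsgGolay.isSimple_sporM22, CfsgGolay.card_sporM22⟩

/-- The element counts of the Mathieu group. -/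
theorem count_shape {c : ℕ} (hc : 0 < c) {n : ℕ} (h : c = Nat.card {g : ↥Spor.M22 // orderOf g = n}) :
    c = 1 ∨ c = 80640 ∨ c = 126720 ∨ 77 ∣ c := by
  classical
  haveI := Fintype.ofFinite ↥Spor.M22
  haveI : Fact (Nat.Prime 11) := ⟨by norm_num⟩
  haveI : Fact (Nat.Prime 7) := ⟨by norm_num⟩
  have hM := isM22_spor
  obtain ⟨F, hFD, hFt⟩ := CfsgSimpleM22.exists_eleven hM
  have hP11 : ∀ P : Sylow 11 ↥Spor.M22, Nat.card (P : Subgroup ↥Spor.M22) = 11 := CfsgSimpleM22.card_sylow11 hM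
  have hP7 : ∀ P : Sylow 7 ↥Spor.M22, Nat.card (P : Subgroup ↥Spor.M22) = 7 := CfsgSimpleM22.card_sylow7 hM
  have c11 : ∀ b : ↥Spor.M22, orderOf b = 11 → Nat.card (centralizer ({b} : Set ↥Spor.M22)) = 11 :=
    fun b hb => card_cent hP11 (fun P => (CfsgSimpleM22.eleven hM P).1) hb
  have c7 : ∀ b : ↥Spor.M22, orderOf b = 7 → Nat.card (centralizer ({b} : Set ↥Spor.M22)) = 7 :=
    fun b hb => card_cent hP7 (fun P => (CfsgSimpleM22.seven hM F hFD hFt P).1) hb
  rcases eq_or_ne n 1 with rfl | h1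
  · left
    rw [h]
    refine Nat.card_eq_one_iff_exists.mpr ⟨⟨1, orderOf_one⟩, fun x => Subtype.ext ?_⟩
    exact orderOf_eq_one_iff.mp x.2
  rcases eq_or_ne n 11 with rfl | h11
  · right; left
    rw [h, CfsgM11Det.count_prime hP11, (CfsgSimpleM22.eleven hM default).2.2]
  rcases eq_or_ne n 7 with rfl | h7
  · right; right; left
    rw [h, CfsgM11Det.count_prime hP7, (CfsgSimpleM22.seven hM F hFD hFt default).2.2]
  right; right; right
  obtain ⟨a, ha⟩ := exists_prime_orderOf_dvd_card' (G := ↥Spor.M22) 11 (by rw [hM.2]; norm_num)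
  obtain ⟨b, hb⟩ := exists_prime_orderOf_dvd_card' (G := ↥Spor.M22) 7 (by rw [hM.2]; norm_num)
  rw [h]
  exact Nat.Coprime.mul_dvd_of_dvd_of_dvd (by norm_num : Nat.Coprime 7 11)
    (CfsgM11Det.dvd_count hb n fun x hx => not_dvd_cent c7 (hx ▸ h1) (hx ▸ h7))
    (CfsgM11Det.dvd_count ha n fun x hx => not_dvd_cent c11 (hx ▸ h1) (hx ▸ h11))

theorem eleven_count {k : ℕ} (h11 : k % 11 = 1)
    (h : k * 10 = 1 ∨ k * 10 = 80640 ∨ k * 10 = 126720 ∨ 77 ∣ k * 10) : k = 8064 := by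
  omega

theorem seven_count {k : ℕ} (h7 : k % 7 = 1)
    (h : k * 6 = 1 ∨ k * 6 = 80640 ∨ k * 6 = 126720 ∨ 77 ∣ k * 6) : k = 21120 := by
  omega

theorem five_count {k : ℕ} (h5 : k % 5 = 1)
    (h : k * 4 = 1 ∨ k * 4 = 80640 ∨ k * 4 = 126720 ∨ 77 ∣ k * 4) : 77 ∣ k := by
  omega

theorem small_check : ∀ d ∈ Nat.divisors 1152, d ≠ 1 → 11 ∣ d - 1 → 6 ∣ d := by decide +kernel

variable {G : Type*} [Group G] [Finite G]

/-- Order and element counts force simplicity. -/
theorem isM22_of_counts (hcard : Nat.card G = Nat.card ↥Spor.M22)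
    (hnse : {c : ℕ | 0 < c ∧ ∃ n : ℕ, c = Nat.card {g : G // orderOf g = n}} =
      {c : ℕ | 0 < c ∧ ∃ n : ℕ, c = Nat.card {g : ↥Spor.M22 // orderOf g = n}}) : IsM22 G := by
  classical
  rw [CfsgGolay.card_sporM22] at hcard
  haveI : Fact (Nat.Prime 11) := ⟨by norm_num⟩
  haveI : Fact (Nat.Prime 7) := ⟨by norm_num⟩
  haveI : Fact (Nat.Prime 5) := ⟨by norm_num⟩
  have hP11 : ∀ P : Sylow 11 G, Nat.card (P : Subgroup G) = 11 :=
    sylow_card (by rw [hcard]; norm_num) (by rw [hcard]; norm_num)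
  have hP7 : ∀ P : Sylow 7 G, Nat.card (P : Subgroup G) = 7 :=
    sylow_card (by rw [hcard]; norm_num) (by rw [hcard]; norm_num)
  have hP5 : ∀ P : Sylow 5 G, Nat.card (P : Subgroup G) = 5 :=
    sylow_card (by rw [hcard]; norm_num) (by rw [hcard]; norm_num)
  have shape : ∀ p : ℕ, [Fact p.Prime] → (∀ P : Sylow p G, Nat.card (P : Subgroup G) = p) →
      Nat.card (Sylow p G) * (p - 1) = 1 ∨ Nat.card (Sylow p G) * (p - 1) = 80640 ∨
        Nat.card (Sylow p G) * (p - 1) = 126720 ∨ 77 ∣ Nat.card (Sylow p G) * (p - 1) := by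
    intro p hp hc
    rw [← CfsgM11Det.count_prime hc]
    have hpos : 0 < Nat.card {g : G // orderOf g = p} := by
      rw [CfsgM11Det.count_prime hc]
      exact Nat.mul_pos Nat.card_pos (Nat.sub_pos_of_lt hp.out.one_lt)
    obtain ⟨-, m, hm⟩ := (Set.ext_iff.mp hnse _).mp ⟨hpos, p, rfl⟩
    exact count_shape hpos hm
  have hn11 : Nat.card (Sylow 11 G) = 8064 := eleven_count (card_sylow_modEq_one 11 G) (shape 11 hP11)
  have hn7 : Nat.card (Sylow 7 G) = 21120 := seven_count (card_sylow_modEq_one 7 G) (shape 7 hP7)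
  have hn5 : 77 ∣ Nat.card (Sylow 5 G) := five_count (card_sylow_modEq_one 5 G) (shape 5 hP5)
  obtain ⟨b, hb⟩ := exists_prime_orderOf_dvd_card' (G := G) 11 (by rw [hcard]; norm_num)
  have hcent : Nat.card (centralizer ({b} : Set G)) = 11 := by
    have hN := card_normalizer_mul hP11 hb
    rw [hn11, hcard] at hN
    have hd : Nat.card (centralizer ({b} : Set G)) ∣ 55 :=
      (card_dvd_of_le (cent_le_normalizer b)).trans (by omega : Nat.card _ = 55).dvd
    have h11 : 11 ∣ Nat.card (centralizer ({b} : Set G)) :=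
      hb ▸ Subgroup.orderOf_dvd_natCard _ (mem_centralizer_singleton_iff.mpr rfl)
    have h5 : ¬ 5 ∣ Nat.card (centralizer ({b} : Set G)) := fun h5 => by
      obtain ⟨q, hq⟩ := exists_prime_orderOf_dvd_card' 5 h5
      have hq' : orderOf (q : G) = 5 := by rw [Subgroup.orderOf_coe, hq]
      have h : 11 ∣ Nat.card (normalizer ((zpowers (q : G) : Subgroup G) : Set G)) :=
        hb ▸ Subgroup.orderOf_dvd_natCard _ (cent_le_normalizer (q : G)
          (mem_centralizer_singleton_iff.mpr (mem_centralizer_singleton_iff.mp q.2).symm))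
      have h2 := Nat.mul_dvd_mul h ((show 11 ∣ 77 by norm_num).trans hn5)
      rw [card_normalizer_mul hP5 hq', hcard] at h2
      norm_num at h2
    have key : ∀ c ∈ Nat.divisors 55, 11 ∣ c → ¬ 5 ∣ c → c = 11 := by decide
    exact key _ (Nat.mem_divisors.2 ⟨hd, by norm_num⟩) h11 h5
  haveI : Nontrivial G := Finite.one_lt_card_iff_nontrivial.mp (by rw [hcard]; norm_num)
  refine ⟨{ eq_bot_or_eq_top_of_normal := fun N hn => ?_ }, hcard⟩
  haveI := hn
  have hd : Nat.card N ∣ 443520 := hcard ▸ Subgroup.card_subgroup_dvd_card N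
  have htop : 11 ∣ Nat.card N ∨ 7 ∣ Nat.card N → N = ⊤ := fun h => by
    have h77 : 8064 ∣ Nat.card N ∧ 21120 ∣ Nat.card N := by
      rcases h with h | h
      · have h1 := hn11 ▸ sylow_count_dvd hP11 h
        exact ⟨h1, hn7 ▸ sylow_count_dvd hP7 ((show 7 ∣ 8064 by norm_num).trans h1)⟩
      · have h1 := hn7 ▸ sylow_count_dvd hP7 h
        exact ⟨hn11 ▸ sylow_count_dvd hP11 ((show 11 ∣ 21120 by norm_num).trans h1), h1⟩
    have hl := Nat.lcm_dvd h77.1 h77.2
    norm_num at hl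
    have h11 : 11 ∣ Nat.card N := (show 11 ∣ 21120 by norm_num).trans h77.2
    refine eq_top_of_card_eq _ (hcard ▸ Nat.dvd_antisymm hd ?_)
    exact (show 443520 ∣ Nat.lcm 8064 21120 by norm_num).trans (Nat.lcm_dvd h77.1 h77.2)
  by_cases h : 11 ∣ Nat.card N ∨ 7 ∣ Nat.card N
  · exact Or.inr (htop h)
  left
  push Not at h
  have h5 : ¬ 5 ∣ Nat.card N := fun h5 =>
    h.2 ((show 7 ∣ 77 by norm_num).trans (hn5.trans (sylow_count_dvd hP5 h5)))
  have h1152 : Nat.card N ∣ 1152 := by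
    have hc : Nat.Coprime (Nat.card N) (5 * 7 * 11) :=
      Nat.Coprime.mul_right (Nat.Coprime.mul_right
        (((show Nat.Prime 5 by norm_num).coprime_iff_not_dvd.mpr h5).symm)
        (((show Nat.Prime 7 by norm_num).coprime_iff_not_dvd.mpr h.2).symm))
        (((show Nat.Prime 11 by norm_num).coprime_iff_not_dvd.mpr h.1).symm)
    exact hc.dvd_of_dvd_mul_left (show Nat.card N ∣ 5 * 7 * 11 * 1152 by norm_num; exact hd)
  refine eq_bot_of_no_room (by rw [hcard]; norm_num) hb hcent h.1 fun q i hq hi hqd hr => ?_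
  have h6 := small_check _ (Nat.mem_divisors.2 ⟨hqd.trans h1152, by norm_num⟩)
    (Nat.one_lt_pow (by omega) hq.one_lt).ne' hr
  have e2 := (Nat.prime_dvd_prime_iff_eq Nat.prime_two hq).1
    (Nat.prime_two.dvd_of_dvd_pow ((show 2 ∣ 6 by norm_num).trans h6))
  have e3 := (Nat.prime_dvd_prime_iff_eq Nat.prime_three hq).1
    (Nat.prime_three.dvd_of_dvd_pow ((show 3 ∣ 6 by norm_num).trans h6))
  omega

end CfsgM22Det
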